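import Groth.Agent.PerfStalk.Spread
import Groth.Agent.TildeKFlat.Main
import Groth.Agent.KFlat.Pullback
import Groth.Agent.DQCoh.PCCalc
import Groth.Agent.DQCoh.AffinePerf
import Groth.Prelude.Def_DerSch

/-!
# A perfect object over a local ring of a scheme is the stalk of a complex perfect nearby
-/

set_option autoImplicit false
set_option linter.style.haveILetI false
set_option backward.isDefEq.respectTransparency false
set_option backward.isDefEq.respectTransparency.types false
set_option maxHeartbeats 1000000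

universe u

open CategoryTheory Limits AlgebraicGeometry TopologicalSpace
open Groth.Agent.DQCoh

attribute [local instance] HasDerivedCategory.standard

noncomputable section

namespace Groth.Agent.PerfStalk

variable {X : Scheme.{u}} {A : CommRingCat.{u}} (j : Spec A ⟶ X) [IsOpenImmersion j] (y : Spec A)

abbrev ρ : X.presheaf.stalk (j.base y) →+* (Spec A).presheaf.stalk y := (j.stalkMap y).hom

lemma bijective_ρ : Function.Bijective (ρ j y) := ConcreteCategory.bijective_of_isIso (j.stalkMap y)

instance isEquivalence_restrictScalars : (ModuleCat.restrictScalars (ρ j y)).IsEquivalence :=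
  ModuleCat.restrictScalars_isEquivalence_of_ringEquiv (RingEquiv.ofBijective _ (bijective_ρ j y))

/-- Extending and restricting scalars along the isomorphism of stalks. -/
def unitIso : 𝟭 (ModuleCat.{u} (X.presheaf.stalk (j.base y))) ≅
    ModuleCat.extendScalars.{u, u, u} (ρ j y) ⋙ ModuleCat.restrictScalars (ρ j y) :=
  haveI := (ModuleCat.extendRestrictScalarsAdj (ρ j y)).isEquivalence_left_of_isEquivalence_right
  asIso (ModuleCat.extendRestrictScalarsAdj (ρ j y)).unit

/-- Stalks of direct images by an open immersion. -/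
def pushStalkIso : Scheme.Modules.pushforward j ⋙ DerSch.stalkFunctor X (j.base y) ≅
    DerSch.stalkFunctor (Spec A) y ⋙ ModuleCat.restrictScalars (ρ j y) :=
  Functor.isoWhiskerLeft _ ((Functor.rightUnitor _).symm ≪≫ Functor.isoWhiskerLeft _ (unitIso j y) ≪≫
      (Functor.associator _ _ _).symm ≪≫ Functor.isoWhiskerRight (KFlat.pullStalkIso j y).symm _ ≪≫
      Functor.associator _ _ _) ≪≫
    (Functor.associator _ _ _).symm ≪≫
    Functor.isoWhiskerRight (Functor.isoWhiskerLeft _ (Scheme.Modules.restrictFunctorIsoPullback j).symm ≪≫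
      Scheme.Modules.restrictFunctorAdjCounitIso j) _ ≪≫ Functor.leftUnitor _

lemma isLocalization_toStalkRing :
    letI := (TildeKFlat.toStalkRing (R := A) y).toAlgebra
    IsLocalization y.asIdeal.primeCompl ((Spec A).presheaf.stalk y) :=
  inferInstanceAs (IsLocalization.AtPrime ((AlgebraicGeometry.structurePresheafInCommRingCat A).stalk y) y.asIdeal)

theorem exists_cx (P : Dual.D (X.presheaf.stalk (j.base y) : Type u))
    (hP : DRing.IsPerfect (X.presheaf.stalk (j.base y) : Type u) P) :
    ∃ (U : X.Opens) (F' : CochainComplex X.Modules ℤ), j.base y ∈ U ∧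
      DCoh.IsPerfect (DerivedCategory.Q.obj ((DCoh.restrictCx U).obj F')) ∧
      Nonempty (DRing.toD (((DerSch.stalkFunctor X (j.base y)).mapHomologicalComplex (ComplexShape.up ℤ)).obj F') ≅ P) := by
  obtain ⟨E, a, b, hE, hEp, ⟨eE⟩⟩ := hP
  let R := (Spec A).presheaf.stalk y
  let E' : DRing.Cx R := ((ModuleCat.extendScalars.{u, u, u} (ρ j y)).mapHomologicalComplex (ComplexShape.up ℤ)).obj E
  have hE' : DRing.VanishesOutside E' a b := fun i hi => (ModuleCat.extendScalars.{u, u, u} (ρ j y)).map_isZero (hE i hi)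
  have hff : ∀ i, Module.Finite R (E'.X i) ∧ Module.Free R (E'.X i) := fun i => by
    letI := (ρ j y).toAlgebra
    haveI := (hEp i).1
    haveI := (hEp i).2
    haveI : Module.Free (X.presheaf.stalk (j.base y)) (E.X i) := Module.free_of_flat_of_isLocalRing
    exact ⟨inferInstanceAs (Module.Finite R (TensorProduct (X.presheaf.stalk (j.base y)) R (E.X i))),
      inferInstanceAs (Module.Free R (TensorProduct (X.presheaf.stalk (j.base y)) R (E.X i)))⟩
  obtain ⟨C, hC, hCp, ⟨eC⟩⟩ := exists_complex (TildeKFlat.toStalkRing (R := A) y) y.asIdeal.primeCompl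
    (isLocalization_toStalkRing y) E' a b hE' hff
  let T := ((tilde.functor A).mapHomologicalComplex (ComplexShape.up ℤ)).obj C
  let F' := ((Scheme.Modules.pushforward j).mapHomologicalComplex (ComplexShape.up ℤ)).obj T
  refine ⟨j.opensRange, F', ⟨y, rfl⟩, ?_, ⟨DerivedCategory.Q.mapIso ?_ ≪≫ eE⟩⟩
  · obtain ⟨k, hk, hkj⟩ := exists_opens j
    have hfree : ∀ i, FlatMod.IsFinLocFree ((Scheme.Modules.restrictFunctor j.opensRange.ι).obj (F'.X i)) := fun i => by
      refine isFinLocFree_of_iso' ?_ (isFinLocFree_restrict k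
        (isFinLocFree_of_iso' ((Scheme.Modules.restrictFunctorAdjCounitIso j).app (T.X i)).symm
          (isFinLocFree_tilde (A := A) (C.X i) (hCp i))))
      exact ((Scheme.Modules.restrictFunctorComp k j).app (F'.X i)).symm ≪≫
        (Scheme.Modules.restrictFunctorCongr hkj).app (F'.X i)
    have hz : ∀ i, i < a ∨ b < i → IsZero ((Scheme.Modules.restrictFunctor j.opensRange.ι).obj (F'.X i)) := fun i hi =>
      (Scheme.Modules.restrictFunctor _).map_isZero ((Scheme.Modules.pushforward j).map_isZero
        ((tilde.functor A).map_isZero (hC i hi)))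
    let G := (DCoh.restrictCx j.opensRange).obj F'
    refine (perfect_iff_near (DCoh.toD _ G)).2 fun z =>
      ⟨_, 𝟙 _, inferInstance, z, rfl, (rC (𝟙 _)).obj G, ⟨⟨a, b, ?_⟩, ?_⟩, ⟨rdIso (𝟙 _) G⟩⟩
    · exact fun i hi => (Scheme.Modules.restrictFunctor (𝟙 _)).map_isZero (hz i hi)
    · exact fun i => isFinLocFree_restrict (𝟙 _) (hfree i)
  · let S := ((DerSch.stalkFunctor (Spec A) y).mapHomologicalComplex (ComplexShape.up ℤ)).obj T
    let Rr := (ModuleCat.restrictScalars (ρ j y)).mapHomologicalComplex (ComplexShape.up ℤ)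
    let e1 : ((DerSch.stalkFunctor X (j.base y)).mapHomologicalComplex (ComplexShape.up ℤ)).obj F' ≅ Rr.obj S :=
      HomologicalComplex.Hom.isoOfComponents (fun i => (pushStalkIso j y).app (T.X i))
        (fun p q _ => ((pushStalkIso j y).hom.naturality (T.d p q)).symm)
    let e2 : S ≅ ((ModuleCat.extendScalars.{u, u, u} (TildeKFlat.toStalkRing (R := A) y)).mapHomologicalComplex
        (ComplexShape.up ℤ)).obj C :=
      HomologicalComplex.Hom.isoOfComponents (fun i => (asIso (TildeKFlat.cmp y)).symm.app (C.X i))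
        (fun p q _ => ((asIso (TildeKFlat.cmp y)).symm.hom.naturality (C.d p q)).symm)
    let e3 : E ≅ Rr.obj E' :=
      HomologicalComplex.Hom.isoOfComponents (fun i => (unitIso j y).app (E.X i))
        (fun p q _ => ((unitIso j y).hom.naturality (E.d p q)).symm)
    exact e1 ≪≫ Rr.mapIso (e2 ≪≫ eC) ≪≫ e3.symm

theorem exists_nhd (x : X) (P : Dual.D ((X.presheaf.stalk x) : Type u))
    (hP : DRing.IsPerfect ((X.presheaf.stalk x) : Type u) P) :
    ∃ (U : X.Opens) (F' : CochainComplex X.Modules ℤ), x ∈ U ∧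
      DCoh.IsPerfect (DerivedCategory.Q.obj ((DCoh.restrictCx U).obj F')) ∧
      Nonempty (DRing.toD (((DerSch.stalkFunctor X x).mapHomologicalComplex (ComplexShape.up ℤ)).obj F') ≅ P) := by
  obtain ⟨W, hW, hxW, -⟩ := exists_isAffineOpen_mem_and_subset (X := X) (x := x) (U := ⊤) trivial
  obtain ⟨y, rfl⟩ : x ∈ Set.range hW.fromSpec.base := hW.range_fromSpec.ge hxW
  exact exists_cx hW.fromSpec y P hP

end Groth.Agent.PerfStalk
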