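import Groth.Prelude.Def_DRing2
import Mathlib

/-!
# A bounded complex of finite free modules over a localisation comes from the ring
-/

set_option autoImplicit false
set_option linter.style.haveILetI false
set_option backward.isDefEq.respectTransparency false
set_option backward.isDefEq.respectTransparency.types false
set_option maxHeartbeats 1000000

universe u

open CategoryTheory Limits TensorProduct Module

noncomputable section

namespace Groth.Agent.PerfStalk

variable {A R : Type u} [CommRing A] [CommRing R] (φ : A →+* R) (M : Submonoid A)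

/-- The base change of a map out of a free module, bijective if it sends the basis to a basis. -/
lemma bijective_extend {ι : Type} [Fintype ι] [DecidableEq ι] (N : ModuleCat.{u} R) (b : Basis ι R N)
    (f : ModuleCat.of A (ι → A) ⟶ (ModuleCat.restrictScalars φ).obj N)
    (hf : ∀ j, f.hom (Pi.single j 1) = b j) :
    IsIso (((ModuleCat.extendRestrictScalarsAdj φ).homEquiv (ModuleCat.of A (ι → A)) N).symm f) := by
  letI := φ.toAlgebra
  let B : Basis ι R (R ⊗[A] (ι → A)) := Algebra.TensorProduct.basis R (Pi.basisFun A ι)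
  let g := ((ModuleCat.extendRestrictScalarsAdj φ).homEquiv (ModuleCat.of A (ι → A)) N).symm f
  let g' : (R ⊗[A] (ι → A)) →ₗ[R] N := g.hom
  have hg : g' = (B.equiv b (Equiv.refl ι)).toLinearMap := B.ext fun j => by
    rw [LinearEquiv.coe_coe, Basis.equiv_apply]
    show g.hom (B j) = b j
    rw [Algebra.TensorProduct.basis_apply, Pi.basisFun_apply]
    refine Eq.trans ?_ (hf j)
    exact (one_smul R _)
  rw [ConcreteCategory.isIso_iff_bijective]
  show Function.Bijective g'
  rw [hg]
  exact LinearEquiv.bijective _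

theorem exists_complex [Nontrivial R] (hloc : letI := φ.toAlgebra; IsLocalization M R) (E : DRing.Cx R) (a b : ℤ)
    (hE : DRing.VanishesOutside E a b) (hff : ∀ i, Module.Finite R (E.X i) ∧ Module.Free R (E.X i)) :
    ∃ C : DRing.Cx A, DRing.VanishesOutside C a b ∧ DRing.TermwiseFiniteProjective C ∧
      Nonempty (((ModuleCat.extendScalars.{u, u, u} φ).mapHomologicalComplex (ComplexShape.up ℤ)).obj C ≅ E) := by
  classical
  letI := φ.toAlgebra
  haveI : IsLocalization M R := hloc
  haveI : ∀ i, Module.Finite R (E.X i) := fun i => (hff i).1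
  haveI : ∀ i, Module.Free R (E.X i) := fun i => (hff i).2
  let n : ℤ → ℕ := fun i => Module.finrank R (E.X i)
  let β : ∀ i, Basis (Fin (n i)) R (E.X i) := fun i => Module.finBasis R (E.X i)
  have hn : ∀ i, i < a ∨ b < i → n i = 0 := fun i hi => by
    haveI := ModuleCat.subsingleton_of_isZero (hE i hi)
    exact Module.finrank_zero_of_subsingleton
  let Mx : ∀ i, Matrix (Fin (n (i + 1))) (Fin (n i)) R := fun i k j => (β (i + 1)).repr ((E.d i (i + 1)).hom (β i j)) k
  let S : Finset (Σ i : ℤ, Fin (n (i + 1)) × Fin (n i)) := (Finset.Icc a b).sigma fun _ => Finset.univ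
  have hmemS : ∀ i (k : Fin (n (i + 1))) (j : Fin (n i)), (⟨i, k, j⟩ : Σ i : ℤ, Fin (n (i + 1)) × Fin (n i)) ∈ S :=
    fun i k j => Finset.mem_sigma.2 ⟨Finset.mem_Icc.2 (by
      by_contra h
      change ¬ (a ≤ i ∧ i ≤ b) at h
      have := hn i (by omega)
      exact absurd j.isLt (by omega)), Finset.mem_univ _⟩
  obtain ⟨s, hs⟩ := IsLocalization.exist_integer_multiples M S (fun p => Mx p.1 p.2.1 p.2.2)
  choose! e he using hs
  let D : ∀ i, Matrix (Fin (n (i + 1))) (Fin (n i)) A := fun i k j => e ⟨i, k, j⟩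
  have hD : ∀ i k j, φ (D i k j) = φ s * Mx i k j := fun i k j => (he _ (hmemS i k j)).trans (Algebra.smul_def _ _)
  have hd : ∀ i j, (E.d i (i + 1)).hom (β i j) = ∑ k, Mx i k j • β (i + 1) k := fun i j =>
    ((β (i + 1)).sum_repr _).symm
  have hMM : ∀ i l j, ∑ k, Mx (i + 1) l k * Mx i k j = 0 := fun i l j => by
    have h0 : (E.d (i + 1) (i + 1 + 1)).hom ((E.d i (i + 1)).hom (β i j)) = 0 := by
      rw [← LinearMap.comp_apply, ← ModuleCat.hom_comp, E.d_comp_d, ModuleCat.hom_zero, LinearMap.zero_apply]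
    rw [hd, map_sum] at h0
    simp_rw [map_smul] at h0
    simp_rw [hd, Finset.smul_sum, smul_smul] at h0
    rw [Finset.sum_comm] at h0
    simp_rw [← Finset.sum_smul] at h0
    have h1 := Fintype.linearIndependent_iff.1 (β (i + 1 + 1)).linearIndependent _ h0 l
    exact (Finset.sum_congr rfl fun k _ => _root_.mul_comm _ _).trans h1
  let P : Finset (Σ i : ℤ, Fin (n (i + 1 + 1)) × Fin (n i)) := (Finset.Icc a b).sigma fun _ => Finset.univ
  have hmemP : ∀ i (l : Fin (n (i + 1 + 1))) (j : Fin (n i)), (⟨i, l, j⟩ : Σ i : ℤ, Fin (n (i + 1 + 1)) × Fin (n i)) ∈ P :=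
    fun i l j => Finset.mem_sigma.2 ⟨Finset.mem_Icc.2 (by
      by_contra h
      change ¬ (a ≤ i ∧ i ≤ b) at h
      have := hn i (by omega)
      exact absurd j.isLt (by omega)), Finset.mem_univ _⟩
  have hkill : ∀ p : Σ i : ℤ, Fin (n (i + 1 + 1)) × Fin (n i),
      ∃ c : M, (c : A) * ∑ k, D (p.1 + 1) p.2.1 k * D p.1 k p.2.2 = 0 := fun p => by
    refine (IsLocalization.map_eq_zero_iff M R _).1 ?_
    change φ _ = 0
    rw [map_sum]
    simp_rw [map_mul, hD]
    have : ∀ k, φ s * Mx (p.1 + 1) p.2.1 k * (φ s * Mx p.1 k p.2.2) = φ s * φ s * (Mx (p.1 + 1) p.2.1 k * Mx p.1 k p.2.2) :=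
      fun k => by ring
    rw [Finset.sum_congr rfl fun k _ => this k, ← Finset.mul_sum, hMM, mul_zero]
  choose c hc using hkill
  let t : M := ∏ p ∈ P, c p
  let D' : ∀ i, Matrix (Fin (n (i + 1))) (Fin (n i)) A := fun i k j => (t : A) * D i k j
  let s' : M := t * s
  have hD' : ∀ i k j, φ (D' i k j) = φ s' * Mx i k j := fun i k j => by
    change φ ((t : A) * D i k j) = φ ((t : A) * s) * _
    rw [map_mul, hD, map_mul, mul_assoc]
  have hDD : ∀ i, D' (i + 1) * D' i = 0 := fun i => by
    ext l j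
    rw [Matrix.mul_apply, Matrix.zero_apply]
    have : ∀ k, D' (i + 1) l k * D' i k j = (t : A) * ((t : A) * (D (i + 1) l k * D i k j)) := fun k => by
      change (t : A) * _ * ((t : A) * _) = _
      ring
    rw [Finset.sum_congr rfl fun k _ => this k, ← Finset.mul_sum, ← Finset.mul_sum]
    obtain ⟨t', ht'⟩ : (c ⟨i, l, j⟩ : A) ∣ (t : A) := by
      rw [show (t : A) = ∏ p ∈ P, (c p : A) from Submonoid.coe_finsetProd ..]
      exact Finset.dvd_prod_of_mem (fun p => (c p : A)) (hmemP i l j)
    have h0 : (c ⟨i, l, j⟩ : A) * ∑ k, D (i + 1) l k * D i k j = 0 := hc ⟨i, l, j⟩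
    rw [ht']
    linear_combination (t' * ((c ⟨i, l, j⟩ : A) * t')) * h0
  let C : DRing.Cx A := CochainComplex.of (fun i => ModuleCat.of A (Fin (n i) → A))
    (fun i => ModuleCat.ofHom (D' i).mulVecLin) (fun i => by
      rw [← ModuleCat.ofHom_comp, ← Matrix.mulVecLin_mul, hDD, Matrix.mulVecLin_zero]; rfl)
  let w : Rˣ := (IsLocalization.map_units R s').unit
  let f : ∀ i, ModuleCat.of A (Fin (n i) → A) ⟶ (ModuleCat.restrictScalars φ).obj (E.X i) := fun i =>
    ModuleCat.ofHom (Y := (ModuleCat.restrictScalars φ).obj (E.X i))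
      { toFun := fun v => ((w ^ (-i) : Rˣ) : R) • ∑ j, φ (v j) • β i j
        map_add' := fun v v' => by
          change ((w ^ (-i) : Rˣ) : R) • _ = (_ : E.X i) + _
          simp [add_smul, Finset.sum_add_distrib]
        map_smul' := fun r v => by
          change ((w ^ (-i) : Rˣ) : R) • ∑ j, φ ((r • v) j) • β i j = φ r • (((w ^ (-i) : Rˣ) : R) • ∑ j, φ (v j) • β i j)
          simp only [Pi.smul_apply, smul_eq_mul, map_mul, Finset.smul_sum, smul_smul]
          exact Finset.sum_congr rfl fun j _ => by congr 1; ring }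
  have hf1 : ∀ i j, (f i).hom (Pi.single j 1) = ((β i).isUnitSMul (fun _ => (w ^ (-i) : Rˣ).isUnit)) j := fun i j => by
    rw [Basis.isUnitSMul_apply]
    change ((w ^ (-i) : Rˣ) : R) • ∑ l, φ ((Pi.single j (1 : A) : Fin (n i) → A) l) • β i l = _
    rw [Finset.sum_eq_single j]
    · rw [Pi.single_eq_same, map_one, one_smul]
    · intro l _ hl
      rw [Pi.single_eq_of_ne hl, map_zero, zero_smul]
    · intro h
      exact absurd (Finset.mem_univ j) h
  let X' := fun i => ModuleCat.of A (Fin (n i) → A)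
  have hiso : ∀ i, IsIso (((ModuleCat.extendRestrictScalarsAdj φ).homEquiv (X' i) (E.X i)).symm (f i)) :=
    fun i => bijective_extend φ _ _ _ (hf1 i)
  refine ⟨C, fun i hi => ?_, fun i => ⟨?_, ?_⟩, ⟨HomologicalComplex.Hom.isoOfComponents
    (fun i => @asIso _ _ _ _ _ (hiso i)) ?_⟩⟩
  · haveI : Subsingleton (Fin (n i) → A) := by rw [hn i hi]; infer_instance
    exact ModuleCat.isZero_of_subsingleton (ModuleCat.of A (Fin (n i) → A))
  · exact inferInstanceAs (Module.Finite A (Fin (n i) → A))
  · exact inferInstanceAs (Module.Projective A (Fin (n i) → A))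
  · intro i k hik
    obtain rfl : i + 1 = k := hik
    change ((ModuleCat.extendRestrictScalarsAdj φ).homEquiv _ _).symm (f i) ≫ E.d i (i + 1) =
      (ModuleCat.extendScalars.{u, u, u} φ).map (C.d i (i + 1)) ≫
        ((ModuleCat.extendRestrictScalarsAdj φ).homEquiv _ _).symm (f (i + 1))
    rw [← Adjunction.homEquiv_naturality_right_symm, ← Adjunction.homEquiv_naturality_left_symm]
    congr 1
    refine ModuleCat.hom_ext ((Pi.basisFun A (Fin (n i))).ext fun j => ?_)
    rw [Pi.basisFun_apply]
    change (E.d i (i + 1)).hom ((f i).hom (Pi.single j 1)) = (f (i + 1)).hom ((C.d i (i + 1)).hom (Pi.single j 1))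
    have hCd : C.d i (i + 1) = ModuleCat.ofHom (D' i).mulVecLin := by
      change CochainComplex.of.d (fun i => ModuleCat.of A (Fin (n i) → A))
        (fun i => ModuleCat.ofHom (D' i).mulVecLin) i (i + 1) = _
      exact CochainComplex.of_d _ _ _
    rw [hf1, Basis.isUnitSMul_apply, map_smul, hd, hCd]
    change _ = ((w ^ (-(i + 1)) : Rˣ) : R) • ∑ l, φ ((D' i).mulVec (Pi.single j 1) l) • β (i + 1) l
    rw [Matrix.mulVec_single_one]
    simp only [Matrix.col_apply, hD', Finset.smul_sum, smul_smul]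
    refine Finset.sum_congr rfl fun l _ => ?_
    congr 1
    have hu : φ (s' : A) = (w : R) := (IsLocalization.map_units R s').unit_spec.symm
    have key : ((w ^ (-(i + 1)) : Rˣ) : R) * (w : R) = ((w ^ (-i) : Rˣ) : R) := by
      rw [← Units.val_mul, ← zpow_add_one, show -(i + 1) + 1 = -i by omega]
    rw [← mul_assoc, hu, key]

end Groth.Agent.PerfStalk
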